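import Groth.Agent.SpecFerrand.MagnetThick
import Mathlib.AlgebraicGeometry.AffineTransitionLimit
import Mathlib.Algebra.Category.Ring.FilteredColimits

/-!
# Points of the attractor of a directed union of magnets
-/

set_option autoImplicit false
universe u

open CategoryTheory CategoryTheory.Limits MonoidalCategory CartesianMonoidalCategory MonObj AlgebraicGeometry Opposite
open Magnet Groth.MiscGeom.Mag

noncomputable section

namespace Groth.MagnetSmooth.Union

variable {M : Type} [AddCommMonoid M] {J : Type} [Preorder J] (N : J → AddSubmonoid M) (hN : Monotone N)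
  (A : Type u) [CommRing A]

/-- `i ↦ A[N_i]` -/
def diag : ULift.{u} J ⥤ CommRingCat.{u} where
  obj i := MA A (N i.down)
  map {i k} f := maMap A (AddSubmonoid.inclusion (hN (show i ≤ k from leOfHom f)))
  map_id i := CommRingCat.hom_ext (MonoidAlgebra.ringHom_ext (fun r => by simp [maMap]) fun m => by
    simp [maMap]; rfl)
  map_comp f g := CommRingCat.hom_ext (MonoidAlgebra.ringHom_ext (fun r => by simp [maMap]) fun m => by
    simp [maMap]; rfl)

/-- `A[N_i] → A[⋃ N_i]` -/
def cocone : Cocone (diag N hN A) where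
  pt := MA A ↥(⨆ i, N i)
  «ι» :=
    { app := fun i => maMap A (AddSubmonoid.inclusion (le_iSup N i.down))
      naturality := fun i k f => CommRingCat.hom_ext (MonoidAlgebra.ringHom_ext (fun r => by simp [diag, maMap])
        fun m => by simp [diag, maMap]; rfl) }

variable [IsDirected J (· ≤ ·)] [Nonempty J]

omit [IsDirected J (· ≤ ·)] in
theorem isDirected_ulift [IsDirected J (· ≤ ·)] : IsDirected (ULift.{u} J) (· ≤ ·) :=
  ⟨fun a b => by
    obtain ⟨c, h1, h2⟩ := exists_ge_ge a.down b.down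
    exact ⟨⟨c⟩, h1, h2⟩⟩

theorem exists_preimage (z : MA A ↥(⨆ i, N i)) :
    ∃ i, ∃ x : (diag N hN A).obj i, ((cocone N hN A).ι.app i).hom x = z := by
  classical
  have hd : Directed (· ≤ ·) N := Monotone.directed_le hN
  induction z using MonoidAlgebra.induction_linear with
  | zero => exact ⟨⟨Classical.arbitrary J⟩, 0, map_zero _⟩
  | add p q hp hq =>
    obtain ⟨i, x, hx⟩ := hp
    obtain ⟨k, y, hy⟩ := hq
    obtain ⟨l, hil, hkl⟩ := (isDirected_ulift (J := J)).directed i k
    refine ⟨l, ((diag N hN A).map (homOfLE hil)).hom x + ((diag N hN A).map (homOfLE hkl)).hom y, ?_⟩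
    rw [map_add, ← hx, ← hy]
    exact congrArg₂ (· + ·) (congr($((cocone N hN A).w (homOfLE hil)) x))
      (congr($((cocone N hN A).w (homOfLE hkl)) y))
  | single m r =>
    obtain ⟨i, hi⟩ := (AddSubmonoid.mem_iSup_of_directed hd).1 m.toAdd.2
    refine ⟨⟨i⟩, MonoidAlgebra.single (Multiplicative.ofAdd (⟨(m.toAdd : M), hi⟩ : N i)) r, ?_⟩
    exact MonoidAlgebra.mapDomain_single ..

/-- `A[⋃ N_i]` is the colimit of the `A[N_i]`. -/
def isColimitCocone : IsColimit (cocone N hN A) := by
  haveI := isDirected_ulift.{u} (J := J)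
  haveI : Nonempty (ULift.{u} J) := ⟨⟨Classical.arbitrary J⟩⟩
  haveI : PreservesColimitsOfShape (ULift.{u} J) (forget CommRingCat.{u}) := inferInstance
  haveI : HasColimitsOfShape (ULift.{u} J) CommRingCat.{u} := inferInstance
  haveI : ReflectsColimitsOfShape (ULift.{u} J) (forget CommRingCat.{u}) :=
    reflectsColimitsOfShape_of_reflectsIsomorphisms
  refine isColimitOfReflects (forget CommRingCat.{u}) (Types.FilteredColimit.isColimitOf' _ _ (fun z => ?_)
    fun i x y h => ⟨i, 𝟙 _, ?_⟩)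
  · obtain ⟨i, x, hx⟩ := exists_preimage N hN A z
    exact ⟨i, x, hx.symm⟩
  · have hinj : Function.Injective ((cocone N hN A).ι.app i).hom :=
      maMap_injective (A := A) (AddSubmonoid.inclusion (le_iSup N i.down)) (AddSubmonoid.inclusion_injective _)
    rw [show x = y from hinj h]

variable {S : Scheme.{u}} (str : Spec (CommRingCat.of A) ⟶ S) {X : Over S} [LocallyOfFinitePresentation X.hom]

include hN in
theorem exists_factor (φ : AMonS S ↥(⨆ i, N i) ⊗ Over.mk str ⟶ X) :
    ∃ (i : J) (ψ : AMonS S ↥(N i) ⊗ Over.mk str ⟶ X),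
      (AMonS.map S (AddSubmonoid.inclusion (le_iSup N i)) ▷ Over.mk str) ≫ ψ = φ := by
  haveI := isDirected_ulift.{u} (J := J)
  haveI : Nonempty (ULift.{u} J) := ⟨⟨Classical.arbitrary J⟩⟩
  let D := (diag N hN A).op ⋙ Scheme.Spec
  let c : Cone D := Scheme.Spec.mapCone (cocone N hN A).op
  have hc : IsLimit c := isLimitOfPreserves Scheme.Spec (isColimitCocone N hN A).op
  let t : D ⟶ (Functor.const _).obj S :=
    { app := fun i => Spec.map (maConst A ↥(N i.unop.down)) ≫ str
      naturality := fun i k f => by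
        show Spec.map ((diag N hN A).map f.unop) ≫ Spec.map (maConst A ↥(N k.unop.down)) ≫ str =
          (Spec.map (maConst A ↥(N i.unop.down)) ≫ str) ≫ 𝟙 _
        rw [Category.comp_id, ← Spec.map_comp_assoc]
        exact congrArg (Spec.map · ≫ str) (maConst_naturality _) }
  haveI : ∀ i, IsAffine (D.obj i) := fun i => inferInstanceAs (IsAffine (Spec _))
  haveI : ∀ {i k} (f : i ⟶ k), IsAffineHom (D.map f) := fun f => isAffineHom_of_isAffine _
  obtain ⟨i, g, hg, hgf⟩ := Scheme.exists_π_app_comp_eq_of_locallyOfFinitePresentation D t X.hom c hc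
    ((specMA str ↥(⨆ i, N i)).hom ≫ φ.left) (by
      ext i : 2
      show Spec.map (maMap A (AddSubmonoid.inclusion (le_iSup N i.unop.down))) ≫
          Spec.map (maConst A ↥(N i.unop.down)) ≫ str = ((specMA str ↥(⨆ i, N i)).hom ≫ φ.left) ≫ X.hom
      rw [Category.assoc, Over.w φ, ← Spec.map_comp_assoc, maConst_naturality, ← specMA_snd str, Category.assoc]
      exact congrArg ((specMA str ↥(⨆ i, N i)).hom ≫ ·) (Over.w (snd _ (Over.mk str))))
  refine ⟨i.unop.down, Over.homMk ((specMA str ↥(N i.unop.down)).inv ≫ g) ?_, Over.OverMorphism.ext ?_⟩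
  · refine (Category.assoc _ _ _).trans ((congrArg (_ ≫ ·) hgf).trans ?_)
    show (specMA str ↥(N i.unop.down)).inv ≫ Spec.map (maConst A ↥(N i.unop.down)) ≫ str = _
    rw [← specMA_snd str, Category.assoc, Iso.inv_hom_id_assoc]
    exact Over.w (snd _ (Over.mk str))
  · rw [← cancel_epi (specMA str ↥(⨆ i, N i)).hom]
    refine Eq.trans ?_ hg
    show (specMA str _).hom ≫ (AMonS.map S _ ▷ Over.mk str).left ≫ (specMA str _).inv ≫ g =
      Spec.map (maMap A _) ≫ g
    rw [← Category.assoc, specMA_whiskerRight, Category.assoc, Iso.hom_inv_id_assoc]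

include hN in
theorem exists_attr [IsSeparated X.hom] (a : MonAct (AMonS S M) X)
    (φ : (attr a (⨆ i, N i)).obj (op (Over.mk str))) :
    ∃ (i : J) (ψ : (attr a (N i)).obj (op (Over.mk str))), (attrMap a (le_iSup N i)).app _ ψ = φ := by
  obtain ⟨i, ψ, hψ⟩ := exists_factor N hN A str φ.1
  let em := AMonS.map S (AddSubmonoid.inclusion (le_iSup N i))
  have hem : MonAct.IsEquivariant (subAct S M (⨆ i, N i)) (subAct S M (N i)) em :=
    MonAct.isEquivariant_restrict_regular _ _ _ (by rw [← AMonS.map_comp]; rfl)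
  refine ⟨i, ⟨ψ, ?_⟩, Subtype.ext hψ⟩
  let T : Over S := Over.mk str
  let σ : ∀ (P : AddSubmonoid M), AMonS S ↥P ⊗ (AMonS S M ⊗ T) ⟶ AMonS S M ⊗ (AMonS S ↥P ⊗ T) := fun P =>
    lift (snd _ _ ≫ fst _ _) (lift (fst _ _) (snd _ _ ≫ snd _ _))
  let τ : AMonS S M ⊗ (AMonS S ↥(N i) ⊗ T) ⟶ AMonS S ↥(N i) ⊗ (AMonS S M ⊗ T) :=
    lift (snd _ _ ≫ fst _ _) (lift (fst _ _) (snd _ _ ≫ snd _ _))
  have hτσ : τ ≫ σ (N i) = 𝟙 _ := by
    refine hom_ext_lift₂ fun W h z => ?_
    obtain ⟨g, z, rfl⟩ : ∃ g s, z = lift g s := ⟨_, _, (lift_comp_fst_snd z).symm⟩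
    simp [σ, τ, comp_lift, comp_lift_assoc]
  have hσem : (em ▷ (AMonS S M ⊗ T)) ≫ σ (N i) = σ _ ≫ (AMonS S M ◁ (em ▷ T)) := by
    refine hom_ext_lift₂ fun W h z => ?_
    obtain ⟨g, z, rfl⟩ : ∃ g s, z = lift g s := ⟨_, _, (lift_comp_fst_snd z).symm⟩
    simp [σ, comp_lift, comp_lift_assoc]
  have key : σ (N i) ≫ ((subAct S M (N i)).prod (MonAct.trivial _ T)).act ≫ ψ =
      σ (N i) ≫ (AMonS S M ◁ ψ) ≫ a.act := by
    refine whiskerRight_cancel (AddSubmonoid.inclusion (le_iSup N i)) (AddSubmonoid.inclusion_injective _) ?_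
    rw [← Category.assoc, hσem, ← Category.assoc (em ▷ _), hσem, Category.assoc, Category.assoc,
      ← whiskerLeft_comp_assoc, hψ]
    refine congrArg (σ _ ≫ ·) ?_
    have h1 := Groth.SpecFerrand.Magnet.isEquivariant_whiskerRight (Y := T) em hem
    have h2 := φ.2
    unfold MonAct.IsEquivariant at h1 h2
    rw [← Category.assoc, ← h1, Category.assoc, hψ]
    exact h2
  have := congrArg (τ ≫ ·) key
  simpa only [reassoc_of% hτσ, MonAct.IsEquivariant] using this

end Groth.MagnetSmooth.Union
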