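import Groth.Agent.MagnetSmooth.Attr
import Groth.Agent.SpecFerrand.MagnetThick

/-!
# Formal smoothness of face projections
-/

set_option autoImplicit false
universe u

open CategoryTheory MonoidalCategory CartesianMonoidalCategory MonObj AlgebraicGeometry Limits
open Magnet Groth.MiscGeom.Mag Groth.Reductive.MTInt Groth.SpecFerrand Groth.SpecFerrand.Magnet

noncomputable section

namespace Groth.MagnetSmooth

variable {S : Scheme.{u}}

theorem sqZero_of_chart {Y Y₀ : Over S} {R R₀ : CommRingCat.{u}} (e : Spec R ≅ Y.left) (e₀ : Spec R₀ ≅ Y₀.left)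
    (ρ : R ⟶ R₀) {i : Y₀ ⟶ Y} (w : e₀.hom ≫ i.left = Spec.map ρ ≫ e.hom)
    (hs : Function.Surjective ρ.hom) (hρ : RingHom.ker ρ.hom ^ 2 = ⊥) : SqZero i := by
  let F : Y.left.presheaf.obj (Opposite.op ⊤) ≅ R := Scheme.Γ.mapIso e.op ≪≫ Scheme.ΓSpecIso _
  let F' : Y₀.left.presheaf.obj (Opposite.op ⊤) ≅ R₀ := Scheme.Γ.mapIso e₀.op ≪≫ Scheme.ΓSpecIso _
  have key : i.left.appTop ≫ F'.hom = F.hom ≫ ρ := by
    show i.left.appTop ≫ e₀.hom.appTop ≫ (Scheme.ΓSpecIso R₀).hom =
      (e.hom.appTop ≫ (Scheme.ΓSpecIso R).hom) ≫ ρ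
    rw [Category.assoc, ← Scheme.ΓSpecIso_naturality, ← Category.assoc, ← Category.assoc,
      ← Scheme.Hom.comp_appTop, ← Scheme.Hom.comp_appTop, w]
  have hb := (ConcreteCategory.isIso_iff_bijective F.hom).1 inferInstance
  have hb' := (ConcreteCategory.isIso_iff_bijective F'.hom).1 inferInstance
  have key' : ∀ x, F'.hom (i.left.appTop x) = ρ (F.hom x) := fun x => congr($key x)
  constructor
  · intro z
    obtain ⟨w, hw⟩ := hs (F'.hom z)
    obtain ⟨x, rfl⟩ := hb.2 w
    exact ⟨x, hb'.1 ((key' x).trans hw)⟩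
  · refine le_bot_iff.mp (Ideal.mul_le.mpr fun x hx y hy => ?_)
    have hker : ∀ x, x ∈ RingHom.ker i.left.appTop.hom → F.hom x ∈ RingHom.ker ρ.hom := by
      intro x hx
      rw [RingHom.mem_ker] at hx ⊢
      refine (key' x).symm.trans ?_
      show F'.hom.hom (i.left.appTop.hom x) = 0
      rw [hx, map_zero]
    have h2 : F.hom x * F.hom y ∈ RingHom.ker ρ.hom ^ 2 := by
      rw [pow_two]; exact Ideal.mul_mem_mul (hker x hx) (hker y hy)
    rw [hρ, Ideal.mem_bot, ← map_mul] at h2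
    exact Ideal.mem_bot.2 (hb.1 (h2.trans (map_zero _).symm))

variable {A A' : Type u} [CommRing A] [CommRing A'] (str : Spec (CommRingCat.of A) ⟶ S) (g : A →+* A')

section Glue

variable {M : Type} [AddCommMonoid M] {N F : AddSubmonoid M}

set_option maxHeartbeats 1000000 in
/-- Maps on `A(F)_{T'}` and on `A(N)_T` that agree on `A(F)_T` extend to `A(N)_{T'}`. -/
theorem exists_glue_lift (hF : Magnet.IsFace N F) (hs : Function.Surjective g) (hg : RingHom.ker g ^ 2 = ⊥)
    {X : Over S} (hX : Smooth X.hom)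
    (x : AMonS S N ⊗ Over.mk (Spec.map (CommRingCat.ofHom g) ≫ str) ⟶ X)
    (y : AMonS S F ⊗ Over.mk str ⟶ X)
    (w : (AMonS S F ◁ (Over.homMk (Spec.map (CommRingCat.ofHom g)) rfl :
          Over.mk (Spec.map (CommRingCat.ofHom g) ≫ str) ⟶ Over.mk str)) ≫ y =
        (AMonS.faceMap S hF ▷ Over.mk (Spec.map (CommRingCat.ofHom g) ≫ str)) ≫ x) :
    ∃ l : AMonS S N ⊗ Over.mk str ⟶ X,
      (AMonS S N ◁ (Over.homMk (Spec.map (CommRingCat.ofHom g)) rfl :
          Over.mk (Spec.map (CommRingCat.ofHom g) ≫ str) ⟶ Over.mk str)) ≫ l = x ∧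
      (AMonS.faceMap S hF ▷ Over.mk str) ≫ l = y := by
  let φ : CommRingCat.of A ⟶ CommRingCat.of A' := CommRingCat.ofHom g
  let str' : Spec (CommRingCat.of A') ⟶ S := Spec.map φ ≫ str
  let t : Over.mk str' ⟶ Over.mk str := Over.homMk (Spec.map φ) rfl
  let p : MA A' N ⟶ MA A' F := CommRingCat.ofHom (faceAlgHom A' hF).toRingHom
  let pA : MA A N ⟶ MA A F := CommRingCat.ofHom (faceAlgHom A hF).toRingHom
  let q : MA A F ⟶ MA A' F := maBase φ F
  let qN : MA A N ⟶ MA A' N := maBase φ N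
  have hpq : pA ≫ q = qN ≫ p := by
    refine CommRingCat.hom_ext (MonoidAlgebra.ringHom_ext (fun r => ?_) fun m => ?_)
    · simp [p, pA, q, qN, maBase, φ, faceAlgHom, MonoidAlgebra.lift_single, MonoidAlgebra.one_def]
    · obtain ⟨m, rfl⟩ : ∃ m', Multiplicative.ofAdd m' = m := ⟨m.toAdd, rfl⟩
      by_cases hm : (m : M) ∈ F
      · simp [p, pA, q, qN, maBase, φ, faceAlgHom_single_of_mem _ hF m hm]
      · simp [p, pA, q, qN, maBase, φ, faceAlgHom_single_of_not_mem _ hF m hm]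
  let R₀ : Subring (MA A F × MA A' N) :=
    RingHom.eqLocus (q.hom.comp (RingHom.fst _ _)) (p.hom.comp (RingHom.snd _ _))
  let p1 : CommRingCat.of R₀ ⟶ MA A F := CommRingCat.ofHom ((RingHom.fst _ _).comp R₀.subtype)
  let p2 : CommRingCat.of R₀ ⟶ MA A' N := CommRingCat.ofHom ((RingHom.snd _ _).comp R₀.subtype)
  have hsq : Sq p1.hom p2.hom q.hom p.hom :=
    ⟨RingHom.ext fun x => x.2, fun z => ⟨_, DFunLike.congr_fun (faceAlgHom_comp_mapDomain A' hF) z⟩,
      fun b a hab => ⟨⟨(b, a), hab⟩, ⟨rfl, rfl⟩, fun y hy => Subtype.ext (Prod.ext hy.1 hy.2)⟩⟩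
  let ρ : MA A N ⟶ CommRingCat.of R₀ := CommRingCat.ofHom
    (RingHom.codRestrict (pA.hom.prod qN.hom) R₀ fun a => congr($hpq a))
  have hρ1 : ρ ≫ p1 = pA := rfl
  have hρ2 : ρ ≫ p2 = qN := rfl
  have hρs : Function.Surjective ρ.hom := by
    rintro ⟨⟨b, a⟩, hab⟩
    obtain ⟨z, hz⟩ := mapRingHom_surjective g hs (Multiplicative ↥N) a
    let e : MA A F := b - pA.hom z
    let d : MA A N := (maMap A (AddSubmonoid.inclusion hF.le)).hom e
    have hd1 : pA.hom d = e := DFunLike.congr_fun (faceAlgHom_comp_mapDomain A hF) e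
    have hd2 : qN.hom d = 0 := by
      have he : q.hom e = 0 := by
        simp only [e, map_sub, sub_eq_zero]
        have h1 : q.hom (pA.hom z) = p.hom (qN.hom z) := congr($hpq z)
        rw [h1, show qN.hom z = a from hz]
        exact hab
      have hnat : maMap A (AddSubmonoid.inclusion hF.le) ≫ qN = q ≫ maMap A' (AddSubmonoid.inclusion hF.le) :=
        CommRingCat.hom_ext (MonoidAlgebra.ringHom_ext (fun r => by simp [qN, q, maBase, maMap])
          fun m => by simp [qN, q, maBase, maMap])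
      have h2 : qN.hom d = (maMap A' (AddSubmonoid.inclusion hF.le)).hom (q.hom e) := congr($hnat e)
      rw [h2, he, map_zero]
    refine ⟨z + d, Subtype.ext (Prod.ext ?_ ?_)⟩
    · show pA.hom (z + d) = b
      rw [map_add, hd1]
      simp [e]
    · show qN.hom (z + d) = a
      rw [map_add, hd2, add_zero]
      exact hz
  have hρker : RingHom.ker ρ.hom ^ 2 = ⊥ := by
    refine eq_bot_iff.mpr ((Ideal.pow_right_mono ?_ 2).trans (mapRingHom_ker_sq g hg (Multiplicative ↥N)).le)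
    intro z hz
    exact congrArg (fun r : R₀ => r.1.2) hz
  let W : Over S := Over.mk (Spec.map ρ ≫ (specMA str N).hom ≫ (AMonS S N ⊗ Over.mk str).hom)
  let κ : W ⟶ AMonS S N ⊗ Over.mk str := Over.homMk (Spec.map ρ ≫ (specMA str N).hom) (Category.assoc _ _ _)
  have e1w : Spec.map p1 ≫ Spec.map ρ ≫ (specMA str N).hom =
      (specMA str F).hom ≫ (AMonS.faceMap S hF ▷ Over.mk str).left := by
    rw [specMA_faceWhisker, ← Spec.map_comp_assoc, hρ1]
  have e2w : Spec.map p2 ≫ Spec.map ρ ≫ (specMA str N).hom =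
      (specMA str' N).hom ≫ (AMonS S N ◁ t).left := by
    refine Eq.trans ?_ (specMA_whiskerLeft str ↥N g).symm
    rw [← Spec.map_comp_assoc, hρ2]
  let i : AMonS S F ⊗ Over.mk str ⟶ W := Over.homMk ((specMA str F).inv ≫ Spec.map p1) (by
    show ((specMA str F).inv ≫ Spec.map p1) ≫ Spec.map ρ ≫ (specMA str N).hom ≫ _ = _
    rw [Category.assoc, reassoc_of% e1w, Iso.inv_hom_id_assoc, Over.w])
  let j : AMonS S N ⊗ Over.mk str' ⟶ W := Over.homMk ((specMA str' N).inv ≫ Spec.map p2) (by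
    show ((specMA str' N).inv ≫ Spec.map p2) ≫ Spec.map ρ ≫ (specMA str N).hom ≫ _ = _
    rw [Category.assoc, reassoc_of% e2w, Iso.inv_hom_id_assoc, Over.w])
  let d : AffSq (AMonS S F ◁ t) (AMonS.faceMap S hF ▷ Over.mk str') i j
      (CommRingCat.of R₀) (MA A F) (MA A' N) (MA A' F) :=
    { p1 := p1, p2 := p2, q := q, p := p, sq := hsq
      eZ := specMA str' F, e1 := specMA str F, e2 := specMA str' N, eW := Iso.refl _
      hf := specMA_whiskerLeft str ↥F g
      hg := specMA_faceWhisker str' hF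
      hi := by
        show (specMA str F).hom ≫ (specMA str F).inv ≫ Spec.map p1 = Spec.map p1 ≫ 𝟙 _
        rw [Iso.hom_inv_id_assoc, Category.comp_id]
      hj := by
        show (specMA str' N).hom ≫ (specMA str' N).inv ≫ Spec.map p2 = Spec.map p2 ≫ 𝟙 _
        rw [Iso.hom_inv_id_assoc, Category.comp_id] }
  have hiκ : i ≫ κ = AMonS.faceMap S hF ▷ Over.mk str := Over.OverMorphism.ext (by
    show ((specMA str F).inv ≫ Spec.map p1) ≫ Spec.map ρ ≫ (specMA str N).hom = _
    rw [Category.assoc, e1w, Iso.inv_hom_id_assoc])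
  have hjκ : j ≫ κ = AMonS S N ◁ t := Over.OverMorphism.ext (by
    show ((specMA str' N).inv ≫ Spec.map p2) ≫ Spec.map ρ ≫ (specMA str N).hom = _
    rw [Category.assoc, e2w, Iso.inv_hom_id_assoc])
  haveI : IsAffine W.left := inferInstanceAs (IsAffine (Spec _))
  haveI := isAffine_amons_prod str ↥N
  obtain ⟨l, hl⟩ := exists_lift_smooth hX
    (sqZero_of_chart (specMA str N) (Iso.refl (Spec (CommRingCat.of R₀))) ρ (i := κ)
      (Category.id_comp _) hρs hρker) (d.isPushout.desc y x w)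
  refine ⟨l, ?_, ?_⟩
  · exact (congrArg (· ≫ l) hjκ).symm.trans ((Category.assoc _ _ _).trans
      ((congrArg (j ≫ ·) hl).trans (d.isPushout.inr_desc _ _ _)))
  · exact (congrArg (· ≫ l) hiκ).symm.trans ((Category.assoc _ _ _).trans
      ((congrArg (i ≫ ·) hl).trans (d.isPushout.inl_desc _ _ _)))

end Glue

variable {M : Type} [AddCommGroup M]

/-- Formal smoothness of `X^N → X^F`. -/
theorem exists_lift_face [AddGroup.FG M] {N F : AddSubmonoid M} (hF : Magnet.IsFace N F) {X : Over S}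
    (hX : Smooth X.hom) (a : MonAct (AMonS S M) X) (hs : Function.Surjective g) (hg : RingHom.ker g ^ 2 = ⊥)
    (x : AMonS S N ⊗ Over.mk (Spec.map (CommRingCat.ofHom g) ≫ str) ⟶ X)
    (hx : MonAct.IsEquivariant (prodAct N _) a x)
    (y : AMonS S F ⊗ Over.mk str ⟶ X) (hy : MonAct.IsEquivariant (prodAct F _) a y)
    (w : (AMonS S F ◁ (Over.homMk (Spec.map (CommRingCat.ofHom g)) rfl :
          Over.mk (Spec.map (CommRingCat.ofHom g) ≫ str) ⟶ Over.mk str)) ≫ y =
        (AMonS.faceMap S hF ▷ Over.mk (Spec.map (CommRingCat.ofHom g) ≫ str)) ≫ x) :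
    ∃ k : AMonS S N ⊗ Over.mk str ⟶ X, MonAct.IsEquivariant (prodAct N _) a k ∧
      (AMonS S N ◁ (Over.homMk (Spec.map (CommRingCat.ofHom g)) rfl :
        Over.mk (Spec.map (CommRingCat.ofHom g) ≫ str) ⟶ Over.mk str)) ≫ k = x ∧
      (AMonS.faceMap S hF ▷ Over.mk str) ≫ k = y := by
  haveI := isAffine_amons_prod str ↥N
  haveI := isAffine_amons_prod str ↥F
  haveI := isAffine_amons_prod (Spec.map (CommRingCat.ofHom g) ≫ str) ↥N
  obtain ⟨l, hl, hlF⟩ := exists_glue_lift str g hF hs hg hX x y w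
  have hu : MonAct.IsEquivariant a (MonAct.trivial (AMonS S M) (𝟙_ (Over S))) (toUnit X) := toUnit_unique _ _
  obtain ⟨k, hk, -, hk'⟩ := exists_equivariant locTriv_AMonS amons_mul_comm hu (prodAct N _) (prodAct N _)
    (isEquivariant_whiskerLeft N _) (sqZero_whiskerLeft str g N hs hg) l (hl ▸ hx) (toUnit_unique _ _)
  exact ⟨k, hk, (hk' _ (prodAct N _) _ (isEquivariant_whiskerLeft N _) (hl ▸ hx)).trans hl,
    (hk' _ (prodAct F _) _ (isEquivariant_whiskerRight _ (isEquivariant_faceMapS S hF)) (hlF ▸ hy)).trans hlF⟩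

end Groth.MagnetSmooth
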