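import Groth.Agent.MagnetSmooth.Avg
import Groth.Agent.Reductive.SubgroupEq
import Groth.Agent.Reductive.MTLocTriv
import Groth.Agent.MiscGeom.MagnetUnram

/-!
# Equivariant lifts of points of attractors
-/

set_option autoImplicit false
universe u

open CategoryTheory MonoidalCategory CartesianMonoidalCategory MonObj AlgebraicGeometry Limits
open Magnet Groth.MiscGeom.Mag Groth.Reductive.MTInt

noncomputable section

namespace Groth.MagnetSmooth

variable {S : Scheme.{u}} {M : Type} [AddCommGroup M]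

/-- the group structure of `D(M)_S` -/
instance grpObjAMonS : GrpObj (AMonS S M) := inferInstanceAs (GrpObj (Red.DS S M))

theorem locTriv_AMonS [AddGroup.FG M] : LocTriv (AMonS S M) :=
  locTriv_of_multTypeFT (H := Red.DS S M) (Groth.Reductive.FreeDiag.isMultTypeFT_DS inferInstance)

theorem amons_mul_comm {Z : Over S} (g h : Z ⟶ AMonS S M) : g * h = h * g :=
  (dsValEquiv (U := S) M Z).injective (by
    rw [map_mul, map_mul]
    exact _root_.mul_comm _ _)

/-- the action on `A(N)_S × T` -/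
abbrev prodAct (N : AddSubmonoid M) (T : Over S) : MonAct (AMonS S M) (AMonS S N ⊗ T) :=
  (subAct S M N).prod (MonAct.trivial (AMonS S M) T)

theorem isEquivariant_whiskerLeft (N : AddSubmonoid M) {T T' : Over S} (t : T' ⟶ T) :
    MonAct.IsEquivariant (prodAct N T') (prodAct N T) (AMonS S N ◁ t) :=
  MonAct.prod_trivial_act_whiskerLeft _ t

variable {A A' : Type u} [CommRing A] [CommRing A'] (str : Spec (CommRingCat.of A) ⟶ S) (g : A →+* A')

theorem isAffine_amons_prod (N : Type) [AddCommMonoid N] :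
    IsAffine (AMonS S N ⊗ Over.mk str).left :=
  IsAffine.of_isIso (specMA str N).inv

theorem sqZero_whiskerLeft (N : Type) [AddCommMonoid N] (hs : Function.Surjective g) (hg : RingHom.ker g ^ 2 = ⊥) :
    SqZero (AMonS S N ◁ (Over.homMk (Spec.map (CommRingCat.ofHom g)) rfl :
      Over.mk (Spec.map (CommRingCat.ofHom g) ≫ str) ⟶ Over.mk str)) := by
  let G : MA A N ⟶ MA A' N := CommRingCat.ofHom (MonoidAlgebra.mapRingHom (Multiplicative N) g)
  let t : Over.mk (Spec.map (CommRingCat.ofHom g) ≫ str) ⟶ Over.mk str := Over.homMk (Spec.map (CommRingCat.ofHom g)) rfl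
  let str' := Spec.map (CommRingCat.ofHom g) ≫ str
  have e : (AMonS S N ◁ t).left = (specMA str' N).inv ≫ Spec.map G ≫ (specMA str N).hom := by
    rw [← specMA_whiskerLeft, Iso.inv_hom_id_assoc]
  let F : (AMonS S N ⊗ Over.mk str).left.presheaf.obj (Opposite.op ⊤) ≅ CommRingCat.of (MA A N) :=
    (Scheme.Γ.mapIso (specMA str N).op) ≪≫ Scheme.ΓSpecIso _
  let F' : (AMonS S N ⊗ Over.mk str').left.presheaf.obj (Opposite.op ⊤) ≅ CommRingCat.of (MA A' N) :=
    (Scheme.Γ.mapIso (specMA str' N).op) ≪≫ Scheme.ΓSpecIso _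
  have key : (AMonS S N ◁ t).left.appTop ≫ F'.hom = F.hom ≫ G := by
    simp only [F, F', Iso.trans_hom, Functor.mapIso_hom, Iso.op_hom]
    show (AMonS S N ◁ t).left.appTop ≫ (specMA str' N).hom.appTop ≫ (Scheme.ΓSpecIso (MA A' N)).hom =
      ((specMA str N).hom.appTop ≫ (Scheme.ΓSpecIso (MA A N)).hom) ≫ G
    rw [Category.assoc, ← Scheme.ΓSpecIso_naturality, ← Category.assoc, ← Category.assoc,
      ← Scheme.Hom.comp_appTop, ← Scheme.Hom.comp_appTop, e, Iso.hom_inv_id_assoc]
  have hb := (ConcreteCategory.isIso_iff_bijective F.hom).1 inferInstance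
  have hb' := (ConcreteCategory.isIso_iff_bijective F'.hom).1 inferInstance
  have key' : ∀ x, F'.hom ((AMonS S N ◁ t).left.appTop x) = G (F.hom x) := fun x => congr($key x)
  constructor
  · intro z
    obtain ⟨w, hw⟩ := mapRingHom_surjective g hs _ (F'.hom z)
    obtain ⟨x, rfl⟩ := hb.2 w
    exact ⟨x, hb'.1 ((key' x).trans hw)⟩
  · refine le_bot_iff.mp (Ideal.mul_le.mpr fun x hx y hy => ?_)
    have hker : ∀ x, x ∈ RingHom.ker (AMonS S N ◁ t).left.appTop.hom → F.hom x ∈ RingHom.ker G.hom := by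
      intro x hx
      rw [RingHom.mem_ker] at hx ⊢
      refine (key' x).symm.trans ?_
      show F'.hom.hom ((AMonS S N ◁ t).left.appTop.hom x) = 0
      rw [hx, map_zero]
    have h2 : F.hom x * F.hom y ∈ RingHom.ker G.hom ^ 2 := by
      rw [pow_two]; exact Ideal.mul_mem_mul (hker x hx) (hker y hy)
    rw [show RingHom.ker G.hom ^ 2 = ⊥ from mapRingHom_ker_sq g hg _, Ideal.mem_bot, ← map_mul] at h2
    exact Ideal.mem_bot.2 (hb.1 (h2.trans (map_zero _).symm))

/-- Formal smoothness of `f^N`. -/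
theorem exists_lift_attr [AddGroup.FG M] (N : AddSubmonoid M) {X W : Over S}
    {a : MonAct (AMonS S M) X} {b : MonAct (AMonS S M) W} {f : X ⟶ W}
    (hf : MonAct.IsEquivariant a b f) [Smooth f.left] (hs : Function.Surjective g) (hg : RingHom.ker g ^ 2 = ⊥)
    (x : AMonS S N ⊗ Over.mk (Spec.map (CommRingCat.ofHom g) ≫ str) ⟶ X)
    (hx : MonAct.IsEquivariant (prodAct N _) a x)
    (y : AMonS S N ⊗ Over.mk str ⟶ W) (hy : MonAct.IsEquivariant (prodAct N _) b y)
    (w : x ≫ f = (AMonS S N ◁ (Over.homMk (Spec.map (CommRingCat.ofHom g)) rfl :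
      Over.mk (Spec.map (CommRingCat.ofHom g) ≫ str) ⟶ Over.mk str)) ≫ y) :
    ∃ k : AMonS S N ⊗ Over.mk str ⟶ X, MonAct.IsEquivariant (prodAct N _) a k ∧
      (AMonS S N ◁ (Over.homMk (Spec.map (CommRingCat.ofHom g)) rfl :
        Over.mk (Spec.map (CommRingCat.ofHom g) ≫ str) ⟶ Over.mk str)) ≫ k = x ∧ k ≫ f = y := by
  haveI := isAffine_amons_prod str N
  haveI := isAffine_amons_prod (Spec.map (CommRingCat.ofHom g) ≫ str) N
  obtain ⟨l, hl, hlf⟩ := exists_lift_over f (sqZero_whiskerLeft str g N hs hg) x y w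
  obtain ⟨k, hk, hkf, hk'⟩ := exists_equivariant locTriv_AMonS amons_mul_comm hf (prodAct N _) (prodAct N _)
    (isEquivariant_whiskerLeft N _) (sqZero_whiskerLeft str g N hs hg) l (hl ▸ hx) (hlf ▸ hy)
  exact ⟨k, hk, (hk' _ (prodAct N _) _ (isEquivariant_whiskerLeft N _) (hl ▸ hx)).trans hl, hkf.trans hlf⟩

end Groth.MagnetSmooth
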