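import Groth.Prelude.Def_Magnet2
import Groth.Agent.Reductive.MTAvg
import Groth.Agent.Reductive.MTRigidLift

/-!
# Equivariant infinitesimal lifts by averaging
-/

set_option autoImplicit false
universe u

open CategoryTheory MonoidalCategory CartesianMonoidalCategory MonObj AlgebraicGeometry Limits
open Magnet Groth.Reductive.MTInt

noncomputable section

namespace Groth.MagnetSmooth

variable {S : Scheme.{u}} {H X W : Over S} [GrpObj H]

/-- Infinitesimal lifts along a smooth `S`-morphism. -/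
theorem exists_lift_over (f : X ⟶ W) [Smooth f.left] {P P₀ : Over S} [IsAffine P.left] [IsAffine P₀.left]
    {i₀ : P₀ ⟶ P} (hs : SqZero i₀) (x : P₀ ⟶ X) (y : P ⟶ W) (w : x ≫ f = i₀ ≫ y) :
    ∃ l : P ⟶ X, i₀ ≫ l = x ∧ l ≫ f = y := by
  let X' : Over W.left := Over.mk f.left
  let P' : Over W.left := Over.mk y.left
  let P₀' : Over W.left := Over.mk (i₀.left ≫ y.left)
  let i' : P₀' ⟶ P' := Over.homMk i₀.left rfl
  haveI : IsAffine P'.left := inferInstanceAs (IsAffine P.left)
  haveI : IsAffine P₀'.left := inferInstanceAs (IsAffine P₀.left)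
  obtain ⟨g, hg⟩ := exists_lift_smooth (X := X') (show Smooth f.left by infer_instance)
    (i₀ := i') ⟨hs.surj, hs.sq⟩ (Over.homMk x.left (congrArg CommaMorphism.left w))
  have hgf : g.left ≫ f.left = y.left := Over.w g
  refine ⟨Over.homMk g.left (by rw [← Over.w f, ← Category.assoc, hgf]; exact Over.w y),
    Over.OverMorphism.ext (by exact congrArg (fun φ => φ.left) hg), Over.OverMorphism.ext hgf⟩

set_option maxHeartbeats 1000000 in
/-- A family of lifts can be averaged into an equivariant one, without changing it where it is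
already equivariant. -/
theorem exists_equivariant (hH : LocTriv H) (hc : ∀ {Z : Over S} (g h : Z ⟶ H), g * h = h * g) {a : MonAct H X} {b : MonAct H W} {f : X ⟶ W}
    (hf : MonAct.IsEquivariant a b f)
    {P P₀ : Over S} [IsAffine P.left] [IsAffine P₀.left] (σ : MonAct H P) (σ₀ : MonAct H P₀)
    {i₀ : P₀ ⟶ P} (hi : MonAct.IsEquivariant σ₀ σ i₀) (hs : SqZero i₀) (l : P ⟶ X)
    (hl₀ : MonAct.IsEquivariant σ₀ a (i₀ ≫ l)) (hlf : MonAct.IsEquivariant σ b (l ≫ f)) :
    ∃ k : P ⟶ X, MonAct.IsEquivariant σ a k ∧ k ≫ f = l ≫ f ∧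
      ∀ (Q : Over S) [IsAffine Q.left] (σQ : MonAct H Q) (j : Q ⟶ P),
        MonAct.IsEquivariant σQ σ j → MonAct.IsEquivariant σQ a (j ≫ l) → j ≫ k = j ≫ l := by
  let d : H ⊗ P ⟶ X := lift (fst H P)⁻¹ (σ.act ≫ l) ≫ a.act
  have hval : ∀ {Z : Over S} (h : Z ⟶ H) (z : Z ⟶ P),
      lift h z ≫ d = lift h⁻¹ (lift h z ≫ σ.act ≫ l) ≫ a.act := fun h z => by
    simp only [d, comp_lift_assoc, GrpObj.comp_inv, lift_fst]
  have hrestr : ∀ {Q : Over S} (σQ : MonAct H Q) (j : Q ⟶ P),
      MonAct.IsEquivariant σQ σ j → MonAct.IsEquivariant σQ a (j ≫ l) →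
      (H ◁ j) ≫ d = snd H Q ≫ j ≫ l := by
    intro Q σQ j hj hjl
    rw [MonAct.isEquivariant_iff] at hj hjl
    refine hom_ext_lift₂ fun Z h z => ?_
    rw [lift_whiskerLeft_assoc, hval, ← Category.assoc (lift h (z ≫ j)), ← hj Z h z, lift_snd_assoc]
    simp only [Category.assoc]
    rw [hjl Z h z, ← a.lift_mul_act, inv_mul_cancel, a.lift_one_act]
  have hd : Congr i₀ d := by
    have h0 := hrestr σ₀ i₀ hi hl₀
    unfold Congr
    rw [h0]
    congr 1
    rw [← ev1_whisker, ev1, h0, lift_snd_assoc, Category.id_comp]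
  obtain ⟨k, hk⟩ := exists_isAvgG hH hs hd
  haveI := isAffine_prod hH.1 P
  refine ⟨k, ?_, ?_, fun Q hQ σQ j hj hjl => ?_⟩
  · obtain ⟨P₁, _, i₁, t₁, hs₁, -, hc₁⟩ := exists_restrict_congr (H := H) hs (snd H P)
    obtain ⟨P₂, _, i₂, t₂, hs₂, -, hc₂⟩ := exists_restrict_congr (H := H) hs σ.act
    have h1 := hk.restrict (snd H P)
    have hcst : Congr i₁ (snd H (H ⊗ P) ≫ fst H P) := Congr.const _
    have h2 : IsAvgG hH (snd H (H ⊗ P) ≫ fst H P) (fst H P) := isAvgG_const _
    have hΦ := hcst.lift (hc₁ d hd)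
    have h3 := ((h2.lift hs₁ hcst (hc₁ d hd) h1).comp hs₁ hΦ a.act).th (fst H P)
    have e : Triv.th (fst H P) ≫ lift (snd H (H ⊗ P) ≫ fst H P) ((H ◁ snd H P) ≫ d) ≫ a.act =
        (H ◁ σ.act) ≫ d := by
      refine hom_ext_lift₂ fun Z h p => ?_
      obtain ⟨g, z, rfl⟩ : ∃ g z, p = lift g z := ⟨_, _, (lift_comp_fst_snd p).symm⟩
      have e1 : lift h (lift g z) ≫ Triv.th (fst H P) = lift (g * h) (lift g z) := by
        simp only [Triv.th, comp_lift, MonObj.comp_mul, lift_snd_assoc, lift_fst, lift_snd]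
      rw [← Category.assoc, e1, comp_lift_assoc, lift_snd_assoc, lift_fst, lift_whiskerLeft_assoc,
        lift_snd, lift_whiskerLeft_assoc, hval, hval, ← a.lift_mul_act,
        ← Category.assoc (lift h (lift g z ≫ σ.act)), ← σ.lift_mul_act, Category.assoc]
      rw [show h * g = g * h from hc h g]
      congr 2
      rw [mul_inv_rev, ← _root_.mul_assoc, hc g, _root_.mul_assoc, mul_inv_cancel, _root_.mul_one]
    rw [e] at h3
    have h4 := h3.unique hs₂ (hc₂ d hd) (hk.restrict σ.act)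
    unfold MonAct.IsEquivariant
    rw [← h4]
    congr 1
  · obtain h1 := hk.comp hs hd f
    refine h1.unique hs (hd.comp f) ?_
    have e : d ≫ f = snd H P ≫ l ≫ f := by
      rw [MonAct.isEquivariant_iff] at hf hlf
      refine hom_ext_lift₂ fun Z h z => ?_
      rw [← Category.assoc, hval, lift_snd_assoc, Category.assoc, hf]
      simp only [Category.assoc]
      rw [hlf Z h z, ← b.lift_mul_act, inv_mul_cancel, b.lift_one_act]
    rw [e]
    exact isAvgG_const _
  · obtain ⟨Q₁, _, i₁, t₁, hs₁, -, hc₁⟩ := exists_restrict_congr (H := H) hs j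
    refine (hk.restrict j).unique hs₁ (hc₁ d hd) ?_
    rw [hrestr σQ j hj hjl]
    exact isAvgG_const _

end Groth.MagnetSmooth
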