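import Groth.Agent.Flatmor4.EqvHomLfp

/-!
Relative finite presentation of the map between schemes representing equivariant maps.
-/

set_option autoImplicit false
set_option linter.style.haveILetI false
set_option backward.isDefEq.respectTransparency.types false

universe u

open CategoryTheory CategoryTheory.Limits MonoidalCategory CartesianMonoidalCategory MonObj AlgebraicGeometry Opposite
open Magnet Groth.Flatmor4.EqvLfp

noncomputable section

namespace Groth.MagnetSmooth

section Stages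

variable {S : Scheme.{u}} {J : Type u} [Preorder J] [IsDirected J (· ≤ ·)] [Nonempty J] (D : Jᵒᵖ ⥤ Scheme.{u})
  [∀ j, IsAffine (D.obj j)] (t : D ⟶ (Functor.const Jᵒᵖ).obj S) {c : Cone D} (hc : IsLimit c)
  (τ : c.pt ⟶ S) (hτ : ∀ j, c.π.app j ≫ t.app j = τ)

include hc in
theorem exists_stage_hom_over (B : Over S) [IsAffineHom B.hom] {X W : Over S} (f : X ⟶ W)
    [LocallyOfFinitePresentation f.left] (w : ∀ j, B ⊗ stage D t j ⟶ W)
    (hw : ∀ {j k : Jᵒᵖ} (m : j ⟶ k), (B ◁ trans D t m) ≫ w k = w j)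
    (g : B ⊗ Over.mk τ ⟶ X) (hg : ∀ j, (B ◁ proj D t τ hτ j) ≫ w j = g ≫ f) :
    ∃ (j : Jᵒᵖ) (gj : B ⊗ stage D t j ⟶ X), (B ◁ proj D t τ hτ j) ≫ gj = g ∧ gj ≫ f = w j := by
  let E := Groth.Limits.bcDiagram t B.hom
  haveI : ∀ {j k : Jᵒᵖ} (m : j ⟶ k), IsAffineHom (E.map m) := fun m => isAffineHom_bc D t B m
  haveI : ∀ j, IsAffine (E.obj j) := fun j => isAffine_bc D t B j
  let tE : E ⟶ (Functor.const Jᵒᵖ).obj W.left :=
    { app := fun j => (w j).left
      naturality := fun j k m => by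
        refine (?_ : _ = (w j).left).trans (Category.comp_id _).symm
        rw [← bcDiagram_map D t B m]
        exact congrArg (fun z => z.left) (hw m) }
  obtain ⟨j, gj, h₁, h₂⟩ := Scheme.exists_π_app_comp_eq_of_locallyOfFinitePresentation E tE f.left
    (Groth.Limits.bcCone t B.hom c τ hτ) (Groth.Limits.isLimitBcCone t B.hom c τ hτ hc) g.left (by
      ext i : 2
      have h := congrArg (fun z => z.left) (hg i)
      simp only [Over.comp_left] at h
      rw [bcCone_app D t τ hτ B i] at h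
      exact h)
  have h₂' : gj ≫ f.left = (w j).left := h₂
  refine ⟨j, Over.homMk gj ?_, Over.OverMorphism.ext ?_, Over.OverMorphism.ext h₂'⟩
  · rw [← Over.w f, ← Category.assoc]
    exact (congrArg (· ≫ W.hom) h₂').trans (Over.w (w j))
  · show (B ◁ proj D t τ hτ j).left ≫ gj = g.left
    rw [bcCone_app D t τ hτ B j]
    exact h₁

include hc in
theorem exists_stage_eq_over (B : Over S) [IsAffineHom B.hom] {X W : Over S} (f : X ⟶ W)
    [LocallyOfFiniteType f.left] (w : ∀ j, B ⊗ stage D t j ⟶ W)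
    (hw : ∀ {j k : Jᵒᵖ} (m : j ⟶ k), (B ◁ trans D t m) ≫ w k = w j)
    {j : Jᵒᵖ} (a b : B ⊗ stage D t j ⟶ X) (ha : a ≫ f = w j) (hb : b ≫ f = w j)
    (h : (B ◁ proj D t τ hτ j) ≫ a = (B ◁ proj D t τ hτ j) ≫ b) :
    ∃ (k : Jᵒᵖ) (m : k ⟶ j), (B ◁ trans D t m) ≫ a = (B ◁ trans D t m) ≫ b := by
  let E := Groth.Limits.bcDiagram t B.hom
  haveI : ∀ {j k : Jᵒᵖ} (m : j ⟶ k), IsAffineHom (E.map m) := fun m => isAffineHom_bc D t B m
  haveI : ∀ j, IsAffine (E.obj j) := fun j => isAffine_bc D t B j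
  let tE : E ⟶ (Functor.const Jᵒᵖ).obj W.left :=
    { app := fun j => (w j).left
      naturality := fun j k m => by
        refine (?_ : _ = (w j).left).trans (Category.comp_id _).symm
        rw [← bcDiagram_map D t B m]
        exact congrArg (fun z => z.left) (hw m) }
  obtain ⟨k, m, hk⟩ := Scheme.exists_hom_comp_eq_comp_of_locallyOfFiniteType E tE f.left
    (Groth.Limits.bcCone t B.hom c τ hτ) (Groth.Limits.isLimitBcCone t B.hom c τ hτ hc) a.left b.left
    (congrArg (fun z => z.left) ha).symm (congrArg (fun z => z.left) hb).symm (by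
      rw [← bcCone_app D t τ hτ B j]
      exact congrArg (fun z => z.left) h)
  refine ⟨k, m, Over.OverMorphism.ext ?_⟩
  show (B ◁ trans D t m).left ≫ a.left = (B ◁ trans D t m).left ≫ b.left
  rw [bcDiagram_map D t B m]
  exact hk

end Stages

variable {S : Scheme.{u}} {A B X Y : Over S} [MonObj A] [IsAffineHom A.hom] [IsAffineHom B.hom]

/-- The map of representing schemes induced by a finitely presented equivariant map is finitely presented. -/
theorem lfp_of_representableBy_postcomp (ρ : MonAct A B) {a : MonAct A X} {b : MonAct A Y} (f : X ⟶ Y)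
    (hf : MonAct.IsEquivariant a b f) [LocallyOfFinitePresentation f.left] {ZX ZY : Over S}
    (eX : (MonAct.eqvHom ρ a).RepresentableBy ZX) (eY : (MonAct.eqvHom ρ b).RepresentableBy ZY) (j : ZX ⟶ ZY)
    (hj : ∀ (T : Over S) (z : T ⟶ ZX),
      eY.homEquiv (z ≫ j) = (MonAct.eqvHom.postcomp ρ f hf).app (op T) (eX.homEquiv z)) :
    LocallyOfFinitePresentation j.left := by
  refine Groth.Limits.locallyOfFinitePresentation_of_exists_factor j.left fun U hU J _ _ _ D t c hc hD j₀ g hg => ?_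
  haveI := hD
  let tY : D ⟶ (Functor.const Jᵒᵖ).obj ZY.left := t ≫ (Functor.const Jᵒᵖ).map U.ι
  let t' : D ⟶ (Functor.const Jᵒᵖ).obj S := tY ≫ (Functor.const Jᵒᵖ).map ZY.hom
  let τ : c.pt ⟶ S := c.π.app j₀ ≫ t'.app j₀
  have hsame : ∀ {Z : Scheme.{u}} (s : D ⟶ (Functor.const Jᵒᵖ).obj Z) (i k : Jᵒᵖ),
      c.π.app i ≫ s.app i = c.π.app k ≫ s.app k := by
    intro Z s i k
    have key : ∀ {i k : Jᵒᵖ} (m : i ⟶ k), c.π.app i ≫ s.app i = c.π.app k ≫ s.app k := fun {i k} m => by
      rw [← c.w m, Category.assoc]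
      have := s.naturality m
      simp only [Functor.const_obj_map] at this
      exact congrArg (c.π.app i ≫ ·) (this.trans (Category.comp_id _)).symm
    exact (key (IsCofiltered.minToLeft i k)).symm.trans (key (IsCofiltered.minToRight i k))
  have hτ : ∀ i, c.π.app i ≫ t'.app i = τ := fun i => hsame t' i j₀
  let pY : ∀ i, stage D t' i ⟶ ZY := fun i => Over.homMk (tY.app i) rfl
  have hpY : ∀ {i k : Jᵒᵖ} (m : i ⟶ k), trans D t' m ≫ pY k = pY i := fun {i k} m =>
    Over.OverMorphism.ext ((tY.naturality m).trans (Category.comp_id _))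
  have hgY : g ≫ j.left = c.π.app j₀ ≫ tY.app j₀ := hg
  let gc : Over.mk τ ⟶ ZX := Over.homMk g (by
    show g ≫ ZX.hom = c.π.app j₀ ≫ tY.app j₀ ≫ ZY.hom
    rw [← Over.w j, ← Category.assoc, hgY, Category.assoc])
  let w : ∀ i, B ⊗ stage D t' i ⟶ Y := fun i => (eY.homEquiv (pY i)).1
  have hw : ∀ {i k : Jᵒᵖ} (m : i ⟶ k), (B ◁ trans D t' m) ≫ w k = w i := fun {i k} m => by
    have h := congrArg Subtype.val (congrArg eY.homEquiv (hpY m))
    rw [eY.homEquiv_comp] at h
    exact h
  have hwc : ∀ i, (B ◁ proj D t' τ hτ i) ≫ w i = (eX.homEquiv gc).1 ≫ f := fun i => by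
    have e : proj D t' τ hτ i ≫ pY i = gc ≫ j :=
      Over.OverMorphism.ext ((hsame tY i j₀).trans hgY.symm)
    have h := congrArg Subtype.val (congrArg eY.homEquiv e)
    rw [eY.homEquiv_comp, hj] at h
    exact h
  obtain ⟨i, gi, hgi, hgif⟩ := exists_stage_hom_over D t' hc τ hτ B f w hw (eX.homEquiv gc).1 hwc
  haveI : IsAffineHom (A ⊗ B).hom := by
    have : IsAffineHom (pullback.fst A.hom B.hom ≫ A.hom) :=
      haveI : IsAffineHom (pullback.fst A.hom B.hom) := MorphismProperty.pullback_fst (P := @IsAffineHom) _ _ inferInstance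
      inferInstance
    exact this
  let w2 : ∀ i, (A ⊗ B) ⊗ stage D t' i ⟶ Y := fun i => (α_ A B _).hom ≫ (A ◁ w i) ≫ b.act
  have hw2 : ∀ {i k : Jᵒᵖ} (m : i ⟶ k), ((A ⊗ B) ◁ trans D t' m) ≫ w2 k = w2 i := fun {i k} m => by
    simp only [w2]
    rw [associator_naturality_right_assoc, ← whiskerLeft_comp_assoc A, hw m]
  obtain ⟨k, m, hm⟩ := exists_stage_eq_over D t' hc τ hτ (A ⊗ B) f w2 hw2
    ((α_ A B (stage D t' i)).hom ≫ (ρ.prod (MonAct.trivial A _)).act ≫ gi)
    ((α_ A B (stage D t' i)).hom ≫ (A ◁ gi) ≫ a.act)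
    (by
      have h := (eY.homEquiv (pY i)).2
      unfold MonAct.IsEquivariant at h
      simp only [Category.assoc, hgif, w2]
      exact congrArg _ h)
    (by
      have hf' := hf
      unfold MonAct.IsEquivariant at hf'
      simp only [Category.assoc, w2]
      rw [hf', ← whiskerLeft_comp_assoc A, hgif])
    (by
      have h := (eX.homEquiv gc).2
      unfold MonAct.IsEquivariant at h
      rw [associator_naturality_right_assoc, associator_naturality_right_assoc,
        ← MonAct.prod_trivial_act_whiskerLeft_assoc, ← whiskerLeft_comp_assoc A, hgi]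
      exact congrArg _ h)
  rw [associator_naturality_right_assoc, associator_naturality_right_assoc,
    ← MonAct.prod_trivial_act_whiskerLeft_assoc, ← whiskerLeft_comp_assoc A] at hm
  let φ : (MonAct.eqvHom ρ a).obj (op (stage D t' k)) := ⟨(B ◁ trans D t' m) ≫ gi, (cancel_epi _).1 hm⟩
  let p : stage D t' k ⟶ ZX := eX.homEquiv.symm φ
  have hp : proj D t' τ hτ k ≫ p = gc := eX.homEquiv.injective (Subtype.ext (by
    rw [eX.homEquiv_comp, Equiv.apply_symm_apply]
    show (B ◁ proj D t' τ hτ k) ≫ (B ◁ trans D t' m) ≫ gi = _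
    rw [← whiskerLeft_comp_assoc, ← hgi]
    congr 2
    exact Over.OverMorphism.ext (c.w m)))
  have hpj : p ≫ j = pY k := eY.homEquiv.injective (Subtype.ext (by
    rw [hj, Equiv.apply_symm_apply]
    show ((B ◁ trans D t' m) ≫ gi) ≫ f = w k
    rw [Category.assoc, hgif, hw m]))
  exact ⟨k, p.left, congrArg (fun z => z.left) hpj, congrArg (fun z => z.left) hp⟩

end Groth.MagnetSmooth
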